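import Cfsg.Agent.H367.TC.KawO
import Cfsg.Agent.H727.TC.Kaw
import Cfsg.Agent.H727.TC.Row3

/-!
# S2464: the rows `POmega⁻_{2n}`, `n ≥ 4`, and `POmega⁺_{2n}`, `n ≥ 5` odd (helper367)

Two isolated primes `r₁, r₂ ≥ 5` (`KawO.lean`) and the criterion of helper727: every `g ≠ 1` is a product of a conjugate
of `x` and a conjugate of `y`, `x` of order `r₁` and `y` of order `r₂`.
-/

set_option autoImplicit false

namespace Cfsg.Agent.H367.TC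

open Cfsg Cfsg.Agent.H530.OZ

universe u

theorem coprime_six_of_prime {r : ℕ} (hr : r.Prime) (h5 : 5 ≤ r) : Nat.Coprime r 6 := by
  rw [Nat.Prime.coprime_iff_not_dvd hr]
  intro h
  have h2 := Nat.le_of_dvd (by norm_num) h
  interval_cases r
  · revert h; decide
  · exact absurd hr (by decide)

/-- the strongest form: both orders are primes `≥ 5` -/
theorem TwoIso.two {S : Type u} [Group S] [Finite S] (h : TwoIso S) :
    ∃ r₁ r₂ : ℕ, r₁.Prime ∧ r₂.Prime ∧ 5 ≤ r₁ ∧ 5 ≤ r₂ ∧ ∃ x y : S, orderOf x = r₁ ∧ orderOf y = r₂ ∧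
      ∀ g : S, g ≠ 1 → ∃ u v : S, g = (u * x * u⁻¹) * (v * y * v⁻¹) := by
  obtain ⟨p, v, r₁, r₂, hp, hL, hK, hv, hr₁, hn₁, h5₁, hi₁, hr₂, hn₂, h5₂, hi₂, ha⟩ := h
  subst hv
  obtain ⟨x, y, hx, hy, -, -, hxy⟩ := Cfsg.Agent.H727.TC.two_of_isoAt hp hL hK hi₁ hi₂ hr₁ hr₂ hn₁ hn₂
    (by omega) (by omega) ha
  exact ⟨r₁, r₂, hr₁, hr₂, h5₁, h5₂, x, y, hx, hy, hxy⟩

theorem TwoIso.six {S : Type u} [Group S] [Finite S] (h : TwoIso S) :
    ∃ x y : S, Nat.Coprime (orderOf x) 6 ∧ Nat.Coprime (orderOf y) 6 ∧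
      ∀ g : S, g ≠ 1 → ∃ u v : S, g = (u * x * u⁻¹) * (v * y * v⁻¹) := by
  obtain ⟨r₁, r₂, hr₁, hr₂, h5₁, h5₂, x, y, hx, hy, hxy⟩ := h.two
  exact ⟨x, y, by rw [hx]; exact coprime_six_of_prime hr₁ h5₁, by rw [hy]; exact coprime_six_of_prime hr₂ h5₂, hxy⟩

theorem finite_of_minus {S : Type u} [Group S] (h : IsPOmegaMinus S) : Finite S := by
  obtain ⟨F, _, _, n, a, b, hn, hab, ⟨e⟩⟩ := h
  exact Finite.of_equiv _ e.symm.toEquiv

/-- S4173, S2464, S2452 together -/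
theorem TwoIso.row3 {S : Type u} [Group S] [Finite S] (h : TwoIso S) : Cfsg.Agent.H210.TC.Row3 S := by
  obtain ⟨p, v, r₁, r₂, hp, hL, hK, hv, hr₁, hn₁, h5₁, hi₁, hr₂, hn₂, h5₂, hi₂, ha⟩ := h
  subst hv
  exact Cfsg.Agent.H727.TC.row3_of_isoAt hp hL hK hi₁ hi₂ hr₁ hr₂ hn₁ hn₂ (coprime_six_of_prime hr₁ h5₁)
    (coprime_six_of_prime hr₂ h5₂) ha

theorem row3_minus {S : Type u} [Group S] (h : IsPOmegaMinus S) : Cfsg.Agent.H210.TC.Row3 S :=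
  have := finite_of_minus h
  (two_minus h).row3

theorem row3_plus_odd {S : Type u} [Group S] {F : Type} [Field F] [Fintype F] {n : ℕ} (hn : 4 ≤ n) (hodd : Odd n)
    (e : S ≃* POmega F (quadFormPlus n F)) : Cfsg.Agent.H210.TC.Row3 S :=
  have : Finite S := Finite.of_equiv _ e.symm.toEquiv
  (two_plus hn hodd e).row3

/-- **The row `POmega⁻_{2n}`, `n ≥ 4`** -/
theorem six_minus {S : Type u} [Group S] (h : IsPOmegaMinus S) :
    ∃ x y : S, Nat.Coprime (orderOf x) 6 ∧ Nat.Coprime (orderOf y) 6 ∧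
      ∀ g : S, g ≠ 1 → ∃ u v : S, g = (u * x * u⁻¹) * (v * y * v⁻¹) :=
  have := finite_of_minus h
  (two_minus h).six

/-- **The row `POmega⁺_{2n}`, `n ≥ 5` odd** -/
theorem six_plus_odd {S : Type u} [Group S] {F : Type} [Field F] [Fintype F] {n : ℕ} (hn : 4 ≤ n) (hodd : Odd n)
    (e : S ≃* POmega F (quadFormPlus n F)) :
    ∃ x y : S, Nat.Coprime (orderOf x) 6 ∧ Nat.Coprime (orderOf y) 6 ∧
      ∀ g : S, g ≠ 1 → ∃ u v : S, g = (u * x * u⁻¹) * (v * y * v⁻¹) :=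
  have : Finite S := Finite.of_equiv _ e.symm.toEquiv
  (two_plus hn hodd e).six

end Cfsg.Agent.H367.TC
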